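import Cfsg.Agent.Lib.Co1Cent.Vec

/-!
The centraliser of the sign change in the lattice group, its action on the quadratic space, and
the kernel of this action.
-/

set_option autoImplicit false

namespace Cfsg.Agent.Lib.Co1Cent

open Cfsg Cfsg.Agent.Lib.Leech Cfsg.Agent.Lib.Co2Cent Cfsg.Agent.Lib.Golay
open Cfsg.Agent.Lib.SporStruct
open scoped Pointwise

/-- The centraliser in the lattice group. -/
noncomputable abbrev C0 : Subgroup Co0 := Subgroup.centralizer ({t0} : Set Co0)

theorem comm (g : C0) : (g : Co0) * t0 = t0 * g := Subgroup.mem_centralizer_singleton_iff.1 g.2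

/-- An element of the centraliser. -/
noncomputable def mk0 (g : Co0) (h : g * t0 = t0 * g) : C0 :=
  ⟨g, Subgroup.mem_centralizer_singleton_iff.2 h⟩

theorem onOct_act (g : C0) {v : leechLattice} (hv : OnOct v) : OnOct ((g : Co0) • v) := by
  apply onOct_of_fix
  rw [← mul_smul, ← comm, mul_smul, t0_fix hv]

theorem phi_act_congr (g : C0) {v w : leechLattice} (hv : OnOct v) (hw : OnOct w)
    (h : phi v = phi w) : phi ((g : Co0) • v) = phi ((g : Co0) • w) := by
  obtain ⟨z, hz, e⟩ := phi_eq_zero (onOct_sub hv hw) (by rw [phi_sub hv hw, h, two_vanish])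
  have ev : v = w + (z + z) := by rw [← e]; abel
  rw [ev, smul_add', smul_add', phi_add (onOct_act g hw), phi_double (onOct_act g hz), add_zero]

/-- The induced map. -/
noncomputable def act (g : C0) (c : V8) : V8 := phi ((g : Co0) • lift c)

theorem act_phi (g : C0) {v : leechLattice} (hv : OnOct v) :
    act g (phi v) = phi ((g : Co0) • v) :=
  phi_act_congr g (onOct_lift _) hv (phi_lift _)

theorem act_add (g : C0) (c d : V8) : act g (c + d) = act g c + act g d := by
  have h : phi (lift c + lift d) = c + d := by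
    rw [phi_add (onOct_lift c), phi_lift, phi_lift]
  rw [← h, act_phi g (onOct_add (onOct_lift c) (onOct_lift d)), smul_add',
    phi_add (onOct_act g (onOct_lift c))]
  rfl

theorem act_mul (g h : C0) (c : V8) : act (g * h) c = act g (act h c) := by
  show _ = act g (phi ((h : Co0) • lift c))
  rw [act_phi g (onOct_act h (onOct_lift c))]
  show phi (((g * h : C0) : Co0) • lift c) = _
  rw [Subgroup.coe_mul, mul_smul]

theorem act_one (c : V8) : act 1 c = c := by
  show phi (((1 : C0) : Co0) • lift c) = c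
  rw [OneMemClass.coe_one, one_smul, phi_lift]

theorem qf_act (g : C0) (c : V8) : qf (act g c) = qf c := by
  rw [act, qf_phi (onOct_act g (onOct_lift c)), norm_smul', ← qf_phi (onOct_lift c), phi_lift]

/-- The linear map of an element. -/
noncomputable def actLin (g : C0) : V8 →ₗ[ZMod 2] V8 :=
  AddMonoidHom.toZModLinearMap 2 (AddMonoidHom.mk' (act g) (act_add g))

/-- The matrix of an element. -/
noncomputable def mat : C0 →* Matrix (Fin 4 ⊕ Fin 4) (Fin 4 ⊕ Fin 4) (ZMod 2) where
  toFun g := LinearMap.toMatrix' (actLin g)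
  map_one' := by
    rw [show actLin 1 = LinearMap.id from LinearMap.ext act_one, LinearMap.toMatrix'_id]
  map_mul' g h := by
    rw [show actLin (g * h) = (actLin g).comp (actLin h) from LinearMap.ext (act_mul g h),
      LinearMap.toMatrix'_comp]

theorem mat_mulVec (g : C0) (c : V8) : (mat g).mulVec c = act g c :=
  LinearMap.toMatrix'_mulVec _ _

/-- The action as a homomorphism into the orthogonal group. -/
noncomputable def rho : C0 →* Cfsg.isometryGroup (ZMod 2) qf :=
  mat.toHomUnits.codRestrict _ fun g u _ => by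
    show qf ((mat g).mulVec u) = qf u
    rw [mat_mulVec, qf_act]

theorem rho_eq_one {g : C0} : rho g = 1 ↔ ∀ c, act g c = c := by
  constructor
  · intro h c
    have h' : mat g = 1 := congrArg (fun x : Cfsg.isometryGroup (ZMod 2) qf =>
      ((x : Matrix.GeneralLinearGroup (Fin 4 ⊕ Fin 4) (ZMod 2)) :
        Matrix (Fin 4 ⊕ Fin 4) (Fin 4 ⊕ Fin 4) (ZMod 2))) h
    rw [← mat_mulVec, h', Matrix.one_mulVec]
  · intro h
    refine Subtype.ext (Units.ext ?_)
    show LinearMap.toMatrix' (actLin g) = 1
    rw [show actLin g = LinearMap.id from LinearMap.ext h, LinearMap.toMatrix'_id]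

theorem root_pm (g : C0) (hg : rho g = 1) {r : leechLattice} (hr : OnOct r)
    (hn : sqNorm (vec r) = 32) : (g : Co0) • r = r ∨ (g : Co0) • r = -r := by
  have hphi : phi ((g : Co0) • r) = phi r := by
    rw [← act_phi g hr, rho_eq_one.1 hg]
  obtain ⟨z, -, e⟩ := phi_eq_zero (onOct_sub (onOct_act g hr) hr)
    (by rw [phi_sub (onOct_act g hr) hr, hphi, two_vanish])
  have hn' : sqNorm (vec ((g : Co0) • r)) = 32 := by rw [norm_smul', hn]
  by_contra hcon
  rw [not_or] at hcon
  have := no_short hcon.1 hcon.2 ⟨z, e⟩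
  omega

theorem root_all : ∀ i j : Fin 8, i ≠ j → ∀ e : Fin 2,
    ((∀ k, rootData i j (1 - 2 * (e : ℕ)) k % 2 = 0) ∧
      (∀ k, rootData i j (1 - 2 * (e : ℕ)) k % 4 = rootData i j (1 - 2 * (e : ℕ)) 0 % 4) ∧
      (∑ k, rootData i j (1 - 2 * (e : ℕ)) k) % 8 = 0) ∧
    (∑ k, rootData i j (1 - 2 * (e : ℕ)) k ^ 2) = 32 := by decide +kernel

/-- The two roots on a pair of octad points. -/
noncomputable def root (i j : Fin 8) (h : i ≠ j) (e : Fin 2) : leechLattice :=
  ofCoord (rootData i j (1 - 2 * (e : ℕ)))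
    ⟨(root_all i j h e).1.1, (root_all i j h e).1.2.1, (root_all i j h e).1.2.2⟩

theorem root_split {i j : Fin 8} (h : i ≠ j) :
    eightE (pts i) = root i j h 0 + root i j h 1 ∧
    eightE (pts j) = root i j h 0 - root i j h 1 := by
  constructor <;> apply Subtype.ext <;> funext p
  · show vec (eightE (pts i)) p = emb _ p + emb _ p
    rw [eightE_apply]
    by_cases hp : p ∈ oct
    · obtain ⟨k, rfl⟩ := (mem_oct_iff p).1 hp
      simp only [emb_pts, rootData, pts_inj.eq_iff]
      split_ifs <;> simp
    · rw [emb_off _ hp, emb_off _ hp, if_neg (fun e : p = pts i => hp (e ▸ pts_mem i))]; rfl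
  · show vec (eightE (pts j)) p = emb _ p - emb _ p
    rw [eightE_apply]
    by_cases hp : p ∈ oct
    · obtain ⟨k, rfl⟩ := (mem_oct_iff p).1 hp
      simp only [emb_pts, rootData, pts_inj.eq_iff]
      split_ifs with h1 h2 <;>
        first
          | (exfalso; exact h (h2.symm.trans h1))
          | (norm_num)
    · rw [emb_off _ hp, emb_off _ hp, if_neg (fun e : p = pts j => hp (e ▸ pts_mem j))]; rfl

theorem root_norm {i j : Fin 8} (h : i ≠ j) (e : Fin 2) : sqNorm (vec (root i j h e)) = 32 := by
  rw [root, sqNorm_ofCoord]; exact (root_all i j h e).2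

theorem axis_step (g : C0) (hg : rho g = 1) {i j : Fin 8} (h : i ≠ j) :
    (g : Co0) • eightE (pts i) = eightE (pts i) ∨ (g : Co0) • eightE (pts i) = -eightE (pts i) ∨
    (g : Co0) • eightE (pts i) = eightE (pts j) ∨ (g : Co0) • eightE (pts i) = -eightE (pts j) := by
  obtain ⟨hs, hd⟩ := root_split h
  rw [hs, hd, smul_add']
  rcases root_pm g hg (onOct_ofCoord _ _) (root_norm h 0) with h1 | h1 <;>
    rcases root_pm g hg (onOct_ofCoord _ _) (root_norm h 1) with h2 | h2 <;>
    rw [root, root] at * <;> rw [h1, h2]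
  · exact Or.inl rfl
  · exact Or.inr (Or.inr (Or.inl (sub_eq_add_neg _ _).symm))
  · exact Or.inr (Or.inr (Or.inr (by abel)))
  · exact Or.inr (Or.inl (by abel))

theorem stab_of_fix {σ : Equiv.Perm GolayPt} (hfix : ∀ p ∈ oct, σ p = p) (p : GolayPt) :
    σ p ∈ oct ↔ p ∈ oct := by
  refine ⟨fun h => ?_, fun h => by rwa [hfix p h]⟩
  have := σ.injective (hfix _ h)
  rwa [this] at h

/-- Every element of the kernel is kernel data up to sign. -/
theorem ker_data0 (g : C0) (hg : rho g = 1) :
    ∃ (σ : Equiv.Perm GolayPt) (s : Finset GolayPt) (h : KerData σ s),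
      (g : Co0) = kerElt0 h ∨ (g : Co0) = negOne * kerElt0 h := by
  have hax : Axis (g : Co0) := by
    rcases axis_step g hg (i := 0) (j := 1) (by decide) with h | h | h | h
    · exact axis_of_one (Or.inl h)
    · exact axis_of_one (Or.inr h)
    · exact axis_of_one (Or.inl h)
    · exact axis_of_one (Or.inr h)
  obtain ⟨σ, hσ, s, hs, e⟩ := exists_monomial hax
  have himg : ∀ i j : Fin 8, i ≠ j → σ (pts i) = pts i ∨ σ (pts i) = pts j := by
    intro i j hij
    have h := axis_step g hg hij
    rw [e, monomial_apply_eightE] at h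
    split_ifs at h <;> rcases h with h | h | h | h <;>
      first
        | exact Or.inl (eightE_inj (Or.inl h))
        | exact Or.inl (eightE_inj (Or.inr h))
        | exact Or.inl (eightE_inj (Or.inl (neg_injective h)))
        | exact Or.inl (eightE_inj (Or.inr (neg_eq_iff_eq_neg.1 h)))
        | exact Or.inr (eightE_inj (Or.inl h))
        | exact Or.inr (eightE_inj (Or.inr h))
        | exact Or.inr (eightE_inj (Or.inl (neg_injective h)))
        | exact Or.inr (eightE_inj (Or.inr (neg_eq_iff_eq_neg.1 h)))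
  have hfix8 : ∀ i : Fin 8, σ (pts i) = pts i := by
    intro i
    obtain ⟨j, k, hij, hik, hjk⟩ : ∃ j k : Fin 8, i ≠ j ∧ i ≠ k ∧ j ≠ k := by
      revert i; decide +kernel
    rcases himg i j hij with h | h
    · exact h
    rcases himg i k hik with h' | h'
    · exact h'
    · exact absurd (pts_inj (h.symm.trans h')) hjk
  have hfix : ∀ p ∈ oct, σ p = p := fun p hp => by
    obtain ⟨i, rfl⟩ := (mem_oct_iff p).1 hp
    exact hfix8 i
  have hσF : σ ∈ octadFix oct := mem_octadFix.2 ⟨hσ, hfix⟩
  have hsame : ∀ i : Fin 8, pts i ∈ s ↔ pts 0 ∈ s := by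
    intro i
    by_cases hi : i = 0
    · rw [hi]
    have hval : ∀ l, vec ((g : Co0) • root i 0 hi 0) (pts l) =
        if pts l ∈ s then -rootData i 0 1 l else rootData i 0 1 l := fun l => by
      rw [e, vec_monomial, (Equiv.symm_apply_eq σ).2 (hfix8 l).symm, root]
      show (if pts l ∈ s then -emb _ (pts l) else emb _ (pts l)) = _
      rw [emb_pts]
      norm_num
    have hr : ∀ l, vec (root i 0 hi 0) (pts l) = rootData i 0 1 l := fun l => by
      show emb _ (pts l) = _
      rw [emb_pts]
      norm_num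
    have hi0 : rootData i 0 1 i = 4 := if_pos rfl
    have h00 : rootData i 0 1 0 = 4 := by
      rw [rootData, if_neg (Ne.symm hi), if_pos rfl]; norm_num
    have a := hval i
    have b := hval 0
    have hneg : ∀ l, vec (-root i 0 hi 0) (pts l) = -rootData i 0 1 l := fun l => by
      show -vec (root i 0 hi 0) (pts l) = _
      rw [hr]
    rcases root_pm g hg (r := root i 0 hi 0) (onOct_ofCoord _ _) (root_norm hi 0) with h | h <;>
      rw [h] at a b
    · rw [hr, hi0] at a
      rw [hr, h00] at b
      split_ifs at a b <;> first | omega | simp [*]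
    · rw [hneg, hi0] at a
      rw [hneg, h00] at b
      split_ifs at a b <;> first | omega | simp [*]
  by_cases h0 : pts 0 ∈ s
  · have hoff : Off sᶜ := by
      refine ⟨hs.compl, fun p hp hpo => ?_⟩
      obtain ⟨i, rfl⟩ := (mem_oct_iff p).1 hpo
      exact Finset.mem_compl.1 hp ((hsame i).2 h0)
    refine ⟨σ, sᶜ, kerData_mk hσF hoff, Or.inr (co0_ext fun i => ?_)⟩
    rw [e, mul_smul, monomial_apply_eightE, kerElt0_apply]
    by_cases hm : σ i ∈ s <;> simp [hm, negOne_smul]
  · refine ⟨σ, s, ⟨hσF, hs, fun p hp hpo => ?_⟩, Or.inl e⟩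
    obtain ⟨i, rfl⟩ := (mem_oct_iff p).1 hpo
    exact h0 ((hsame i).1 hp)

theorem negOne_comm : negOne * t0 = t0 * negOne :=
  (Subgroup.mem_center_iff.1 negOne_mem_center t0).symm

/-- Negation in the centraliser. -/
noncomputable def neg0 : C0 := mk0 negOne negOne_comm

theorem rho_neg0 : rho neg0 = 1 :=
  rho_eq_one.2 fun c => by
    show phi (negOne • lift c) = c
    rw [negOne_smul, phi_neg (onOct_lift c), phi_lift]

/-- Kernel data in the centraliser. -/
noncomputable def ker0 {σ : Equiv.Perm GolayPt} {s : Finset GolayPt} (h : KerData σ s) : C0 :=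
  mk0 (kerElt0 h) (monomial_comm_t0 h.mem h.stab h.2.1)

theorem rho_ker0 {σ : Equiv.Perm GolayPt} {s : Finset GolayPt} (h : KerData σ s) :
    rho (ker0 h) = 1 :=
  rho_eq_one.2 fun c => by
    show phi (kerElt0 h • lift c) = c
    rw [kerElt0_fix h (onOct_lift c), phi_lift]

end Cfsg.Agent.Lib.Co1Cent
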