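import Cfsg.Agent.Lib.Co1Cent.Quot
import Cfsg.Agent.Lib.Balance.Locals

/-!
The generalised Fitting subgroup of the centraliser, and a second conjugate of the involution in it.
-/

set_option autoImplicit false

namespace Cfsg.Agent.Lib.Co1Cent

open Cfsg Cfsg.Agent.Lib.Leech Cfsg.Agent.Lib.Co2Cent Cfsg.Agent.Lib.Golay
open Cfsg.Agent.Lib.SporStruct Cfsg.Agent.Lib.SporStruct.Masks Cfsg.Agent.Lib.LeechMod2
open scoped Pointwise symmDiff

theorem perm_test : (fiveFixers.any fun c => Nat.beq (permMask c 8536111) 8536111 &&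
    (List.range 4096).any fun k => Nat.beq (enc k &&& 8536111) 0 &&
      !(Nat.beq (permMask c (enc k)) (enc k)) &&
      !(Nat.beq (permMask c (enc k)) (enc k ^^^ 8241104))) = true := by
  decide +kernel

/-- A monomial element of the centraliser moving some pair of code sets off the octad. -/
theorem exists_perm_moves : ∃ σ ∈ M24, (∀ p, σ p ∈ oct ↔ p ∈ oct) ∧
    ∃ t, Off t ∧ σ • t ≠ t ∧ σ • t ≠ octᶜ ∆ t := by
  obtain ⟨c, hc, h⟩ := List.any_eq_true.mp perm_test
  simp only [Bool.and_eq_true, Nat.beq_eq, List.any_eq_true, List.mem_range, Bool.not_eq_true'] at h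
  obtain ⟨h1, k, hk, ⟨hoff, hne⟩, hne'⟩ := h
  have hok := okCode_fixer hc
  have hspec := List.all_eq_true.mp fiveFixers_spec c hc
  simp only [Bool.and_eq_true] at hspec
  refine ⟨gperm c, gperm_mem_M24 hspec.1, OctadStab.smul_eq_iff.1 ?_, setOfMask (enc k),
    (off_iff hk).2 hoff, fun e => ?_, fun e => ?_⟩
  · rw [show (oct : Finset GolayPt) = setOfMask 8536111 from rfl, smul_setOfMask hok, h1]
  · rw [smul_setOfMask hok] at e
    rw [setOfMask_injOn (permMask_lt hok _) (enc_lt hk) e] at hne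
    simp at hne
  · rw [smul_setOfMask hok] at e
    have e2 : octᶜ ∆ setOfMask (enc k) = setOfMask (enc k ^^^ 8241104) := by
      rw [← compl_mask]
      ext p
      simp [Finset.mem_symmDiff, Nat.testBit_xor]
      cases (enc k).testBit (idx p) <;> cases (8241104 : ℕ).testBit (idx p) <;> simp
    rw [e2] at e
    rw [setOfMask_injOn (permMask_lt hok _)
      (Nat.xor_lt_two_pow (enc_lt hk) (by norm_num)) e] at hne'
    simp at hne'

theorem smul_off_stab {σ : Equiv.Perm GolayPt} (hσM : σ ∈ M24) (hσ : ∀ p, σ p ∈ oct ↔ p ∈ oct)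
    {t : Finset GolayPt} (ht : Off t) : Off (σ • t) := by
  refine ⟨?_, fun p hp hpo => ?_⟩
  · have e : t.map σ.toEmbedding = σ • t := by
      ext p
      simp only [Finset.mem_map, Finset.mem_smul_finset, Equiv.coe_toEmbedding, Equiv.Perm.smul_def]
    exact e ▸ ht.1.map hσM
  obtain ⟨q, hq, rfl⟩ := Finset.mem_smul_finset.1 hp
  exact ht.2 q hq ((hσ q).1 hpo)

theorem monomial_mul_flip {σ : Equiv.Perm GolayPt} (hσ : σ ∈ M24) {t u : Finset GolayPt}
    (ht : IsCode t) (hu : IsCode u) (e : σ • t = u) :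
    monomial σ hσ ∅ isCode_empty * flip t ht =
      flip u hu * monomial σ hσ ∅ isCode_empty := by
  subst e
  refine co0_ext fun i => ?_
  show (_ * monomial 1 _ t ht) • eightE i = (monomial 1 _ (σ • t) hu * _) • eightE i
  have hm : σ i ∈ σ • t ↔ i ∈ t := by
    rw [← Equiv.Perm.smul_def]; exact Finset.smul_mem_smul_finset_iff σ
  by_cases h : i ∈ t <;>
    simp [mul_smul, monomial_apply_eightE, h, hm, smul_neg']

theorem ker0_one {s : Finset GolayPt} (h : Off s) :
    ((ker0 (kerData_mk (σ := 1) (one_mem _) h) : C0) : Co0) = flip s h.1 := rfl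

/-- Sign changes on the octad-free code sets. -/
noncomputable def qq (t : {s : Finset GolayPt // Off s}) : C1 := psi (kerMap (1, t))

theorem qq_mem (t : {s : Finset GolayPt // Off s}) : qq t ∈ Q1 := by
  show _ ∈ rho1.ker
  rw [ker_rho1]
  exact ⟨_, rfl⟩

theorem mul_zz (t : {s : Finset GolayPt // Off s}) :
    zz * kerMap (1, t) = kerMap (1, ⟨octᶜ ∆ t.1, off_symmDiff off_compl t.2⟩) := by
  rw [zz, kerMap_mul]
  exact congrArg kerMap (Prod.ext (one_mul _) (Subtype.ext (by simp)))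

theorem centralizer_le : Subgroup.centralizer (Q1 : Set C1) ≤ Q1 := by
  have hs := isSimple_omega
  have hs' : IsSimpleGroup rho1.range := (MulEquiv.subgroupCongr range_rho1).isSimpleGroup
  have hN : ((Subgroup.centralizer (Q1 : Set C1)).map rho1.rangeRestrict).Normal :=
    Subgroup.Normal.map Subgroup.normal_centralizer _ rho1.rangeRestrict_surjective
  rcases hN.eq_bot_or_eq_top with h | h
  · intro x hx
    rw [Subgroup.map_eq_bot_iff] at h
    have := h hx
    rwa [MonoidHom.ker_rangeRestrict] at this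
  exfalso
  obtain ⟨σ, hσM, hσ, t, ht, hne, hne'⟩ := exists_perm_moves
  let g := mk0 _ (monomial_comm_t0 hσM hσ isCode_empty)
  have hx : rho1.rangeRestrict (pi g) ∈
      (Subgroup.centralizer (Q1 : Set C1)).map rho1.rangeRestrict := by rw [h]; trivial
  obtain ⟨y, hy, hyx⟩ := Subgroup.mem_map.1 hx
  have hyk : y⁻¹ * pi g ∈ rho1.ker := by
    rw [MonoidHom.mem_ker, map_mul, map_inv, inv_mul_eq_one]
    exact congrArg Subtype.val hyx
  obtain ⟨k, hk⟩ := ker_rho1 ▸ hyk
  have hg : pi g = y * psi k := by rw [hk, mul_inv_cancel_left]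
  let t' : {s : Finset GolayPt // Off s} := ⟨σ • t, smul_off_stab hσM hσ ht⟩
  have hconj : pi g * qq ⟨t, ht⟩ = qq t' * pi g := by
    rw [qq, qq, psi_kerMap, psi_kerMap, ← map_mul, ← map_mul]
    refine congrArg pi (Subtype.ext ?_)
    rw [Subgroup.coe_mul, Subgroup.coe_mul, ker0_one ht, ker0_one t'.2]
    exact monomial_mul_flip hσM ht.1 t'.2.1 rfl
  have hcomm : qq t' * y = y * qq t' :=
    Subgroup.mem_centralizer_iff.1 hy _ (qq_mem t')
  rw [hg, ← mul_assoc (qq t'), hcomm, mul_assoc, mul_assoc, mul_left_cancel_iff, qq, qq,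
    ← map_mul, ← map_mul] at hconj
  have e := psi_injective hconj
  rcases mul_comm_or k (kerMap (1, ⟨t, ht⟩)) with h' | h' <;> rw [h'] at e
  · have e2 := congrArg (fun p : octadFix oct × {s : Finset GolayPt // Off s} => p.2.1)
      (kerMap_bijective.1 (mul_right_cancel e))
    exact hne e2.symm
  · rw [← mul_assoc, mul_zz] at e
    have e2 := congrArg (fun p : octadFix oct × {s : Finset GolayPt // Off s} => p.2.1)
      (kerMap_bijective.1 (mul_right_cancel e))
    exact hne' e2.symm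

theorem isPGroup_Q1 : IsPGroup 2 Q1 := IsPGroup.of_card card_Q1

theorem pCore_eq1 : pCore 2 C1 = Q1 := by
  have hs := isSimple_omega
  have hs' : IsSimpleGroup rho1.range := (MulEquiv.subgroupCongr range_rho1).isSimpleGroup
  have := finite_C1
  refine le_antisymm ?_ (Cores.le_pCore isPGroup_Q1)
  have hn : ((pCore 2 C1).map rho1.rangeRestrict).Normal :=
    Subgroup.Normal.map inferInstance _ rho1.rangeRestrict_surjective
  rcases hn.eq_bot_or_eq_top with h | h
  · rw [Subgroup.map_eq_bot_iff, MonoidHom.ker_rangeRestrict] at h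
    exact h
  · exfalso
    have hp : IsPGroup 2 ((pCore 2 C1).map rho1.rangeRestrict) :=
      (Cores.pCore_isPGroup 2).map _
    rw [h] at hp
    have hp' := hp.of_equiv Subgroup.topEquiv
    have : Fact (Nat.Prime 2) := ⟨Nat.prime_two⟩
    obtain ⟨n, hn'⟩ := IsPGroup.iff_card.1 hp'
    rw [card_range] at hn'
    have h3 : 3 ∣ 2 ^ n := by rw [← hn']; norm_num
    exact absurd (Nat.prime_three.dvd_of_dvd_pow h3) (by norm_num)

theorem genFitting_eq : generalizedFittingSubgroup C1 = Q1 := by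
  have := finite_C1
  have : Fact (Nat.Prime 2) := ⟨Nat.prime_two⟩
  rw [← pCore_eq1]
  exact Balance.centralizer_pCore_le_iff.1 (by rw [pCore_eq1]; exact centralizer_le)

theorem oct_test : ((List.range 4096).any fun k =>
    Nat.beq (enc k &&& 8536111) 0 && isWord 8 (enc k)) = true := by decide +kernel

theorem exists_off_octad : ∃ o ∈ octads, Off o := by
  obtain ⟨k, hk, h⟩ := List.any_eq_true.mp oct_test
  rw [List.mem_range] at hk
  simp only [Bool.and_eq_true, Nat.beq_eq, isWord_iff] at h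
  refine ⟨setOfMask (enc k), ⟨isCode_mask h.2.1, ?_⟩, (off_iff hk).2 h.1⟩
  rw [card_setOfMask]
  exact h.2.2

theorem exists_conj : ∃ g : Spor.Co1, ∃ hq : g * z1 * g⁻¹ ∈ C1,
    (⟨g * z1 * g⁻¹, hq⟩ : C1) ∈ Q1 ∧ g * z1 * g⁻¹ ≠ z1 := by
  obtain ⟨o, ho, hoff⟩ := exists_off_octad
  obtain ⟨σ, hσ, hso⟩ := transitive_octads baseOctad_mem ho
  have hoc : IsCode o := hoff.1
  let m := monomial σ hσ ∅ isCode_empty
  have hsc : σ • octᶜ = oᶜ := by
    rw [← hso]
    ext p
    simp [← Finset.inv_smul_mem_iff]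
  have hm : m * t0 = flip oᶜ hoc.compl * m := monomial_mul_flip hσ _ _ hsc
  have hflip : flip oᶜ hoc.compl = negOne * flip o hoc := by
    refine co0_ext fun i => ?_
    show monomial 1 _ oᶜ _ • eightE i = (negOne * monomial 1 _ o _) • eightE i
    by_cases h : i ∈ o <;> simp [mul_smul, monomial_apply_eightE, h, negOne_smul]
  have hz : Frame.bar m * z1 * (Frame.bar m)⁻¹ = ((qq ⟨o, hoff⟩ : C1) : Spor.Co1) := by
    rw [z1, ← map_mul, hm, hflip, map_mul, mul_inv_cancel_right, map_mul,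
      Frame.bar_eq_one.2 negOne_mem_center, one_mul]
    rfl
  have hmem : Frame.bar m * z1 * (Frame.bar m)⁻¹ ∈ C1 := by rw [hz]; exact (qq ⟨o, hoff⟩).2
  refine ⟨Frame.bar m, hmem, ?_, ?_⟩
  · rw [show (⟨_, hmem⟩ : C1) = qq ⟨o, hoff⟩ from Subtype.ext hz]
    exact qq_mem _
  · intro e
    rw [hz] at e
    have hzz : ((psi zz : C1) : Spor.Co1) = z1 := rfl
    rw [← hzz, qq] at e
    have e2 := congrArg (fun p : octadFix oct × {s : Finset GolayPt // Off s} => p.2.1)
      (kerMap_bijective.1 (psi_injective (Subtype.ext e)))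
    have hc : o.card = 8 := ho.2
    rw [show o = octᶜ from e2] at hc
    revert hc
    decide +kernel

theorem orderOf_z1 : orderOf z1 = 2 := by
  refine orderOf_eq_prime ?_ ?_
  · have h0 : t0 * t0 = 1 := Frame.mul_self_of_diag (Frame.flip_mem_diag _ off_compl.1)
    rw [z1, ← map_pow, pow_two, h0, map_one]
  · intro h
    have h1 : (psi zz : C1) = psi 1 := by
      rw [map_one]
      exact Subtype.ext h
    exact zz_ne_one (psi_injective h1)

theorem main : ∃ z : Spor.Co1, orderOf z = 2 ∧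
    ∃ (Q : Subgroup (Subgroup.centralizer ({z} : Set Spor.Co1))) (_ : Q.Normal),
    generalizedFittingSubgroup (Subgroup.centralizer ({z} : Set Spor.Co1)) = Q ∧
    IsExtraspecial 2 Q ∧ Nat.card Q = 2 ^ 9 ∧
    Nonempty ((Subgroup.centralizer ({z} : Set Spor.Co1)) ⧸ Q ≃*
      Cfsg.Omega (ZMod 2) (Cfsg.quadFormPlus 4 (ZMod 2))) ∧
    ∃ g : Spor.Co1, (∃ hq : g * z * g⁻¹ ∈ Subgroup.centralizer ({z} : Set Spor.Co1),
      (⟨g * z * g⁻¹, hq⟩ : Subgroup.centralizer ({z} : Set Spor.Co1)) ∈ Q) ∧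
      g * z * g⁻¹ ≠ z := by
  obtain ⟨g, hq, h1, h2⟩ := exists_conj
  exact ⟨z1, orderOf_z1, Q1, inferInstance, genFitting_eq, extraspecial_Q1, card_Q1,
    ⟨quotEquiv⟩, g, ⟨hq, h1⟩, h2⟩

end Cfsg.Agent.Lib.Co1Cent
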