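import Cfsg.Agent.Lib.Co1Cent.Act

/-!
The centraliser is transitive on the singular points of the quadratic space, the stabiliser of the
class of a frame is monomial, and this gives the order of the centraliser.
-/

set_option autoImplicit false

namespace Cfsg.Agent.Lib.Co1Cent

open Cfsg Cfsg.Agent.Lib.Leech Cfsg.Agent.Lib.Co2Cent Cfsg.Agent.Lib.Golay
open Cfsg.Agent.Lib.SporStruct
open scoped Pointwise

/-- The action on the space. -/
noncomputable instance instMulActionV8 : MulAction C0 V8 where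
  smul := act
  one_smul := act_one
  mul_smul := act_mul

theorem smul_eq_act (g : C0) (c : V8) : g • c = act g c := rfl

theorem act_coords {g : C0} {f : (Fin 8 → ℤ) → (Fin 8 → ℤ)}
    (h : ∀ v, OnOct v → coord ((g : Co0) • v) = f (coord v)) (c : V8) :
    act g c = fun k => ((kk (f (lift8 c)) (ix k) : ℤ) : ZMod 2) := by
  funext k
  show ((kk (coord ((g : Co0) • lift c)) (ix k) : ℤ) : ZMod 2) = _
  rw [h _ (onOct_lift c), lift, coord_ofCoord]

/-- The class of a frame. -/
noncomputable def c0 : V8 := phi (eightE (pts 0))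

theorem onOct_eightE {p : GolayPt} (hp : p ∈ oct) : OnOct (eightE p) := fun q hq => by
  rw [eightE_apply, if_neg (fun h : q = p => hq (h ▸ hp))]

/-- The coordinates of the vector with the given bits. -/
def dec (a : ℕ) : V8 := fun k => if a.testBit (ix k : ℕ) then 1 else 0

theorem axis_test : ∀ i : Fin 8,
    (fun k => ((kk (fun l => if l = i then 8 else 0) (ix k) : ℤ) : ZMod 2)) = dec 56 := by
  decide +kernel

theorem phi_eightE (i : Fin 8) : phi (eightE (pts i)) = dec 56 := by
  have hc : coord (eightE (pts i)) = fun l => if l = i then 8 else 0 := funext fun l => by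
    show vec (eightE (pts i)) (pts l) = _
    rw [eightE_apply]
    exact if_congr pts_inj.eq_iff rfl rfl
  rw [← axis_test i]
  funext k
  simp only [phi, hc]

theorem c0_eq : c0 = dec 56 := phi_eightE 0

/-- The permutation of a generator. -/
def genPi : Fin 8 → Equiv.Perm (Fin 8) :=
  ![Equiv.swap 0 2 * Equiv.swap 0 1, Equiv.swap 0 3 * Equiv.swap 0 1,
    Equiv.swap 0 4 * Equiv.swap 0 1, Equiv.swap 0 5 * Equiv.swap 0 1,
    Equiv.swap 0 6 * Equiv.swap 0 1, Equiv.swap 0 7 * Equiv.swap 0 1, 1, 1]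

theorem genPi_sign : ∀ j, Equiv.Perm.sign (genPi j) = 1 := by decide +kernel

/-- The coordinate map of a generator. -/
def genMap (j : Fin 8) (x : Fin 8 → ℤ) : Fin 8 → ℤ :=
  if j < 6 then fun i => x ((genPi j).symm i)
  else if j = 6 then fun i => (if i = 2 ∨ i = 3 then (-1 : ℤ) else 1) * x i
  else sx x

theorem exists_gen (j : Fin 8) :
    ∃ g : C0, ∀ v, OnOct v → coord ((g : Co0) • v) = genMap j (coord v) := by
  by_cases h6 : j < 6
  · obtain ⟨g, hc, hg⟩ := exists_move (genPi_sign j) isCode_empty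
    refine ⟨mk0 g hc, fun v hv => ?_⟩
    show coord (g • v) = _
    rw [(hg v hv).2, genMap, if_pos h6]
    funext i
    rw [sgn, if_neg (Finset.notMem_empty _), one_mul]
  by_cases h7 : j = 6
  · obtain ⟨g, hc, hg⟩ := exists_move (π := 1) (map_one _) twoSet_code
    refine ⟨mk0 g hc, fun v hv => ?_⟩
    show coord (g • v) = _
    rw [(hg v hv).2, genMap, if_neg h6, if_pos h7]
    funext i
    rw [sgn_two]
    rfl
  · refine ⟨mk0 _ sextet_comm, fun v hv => ?_⟩
    show coord (sextetElt sext_isSextet • v) = _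
    rw [coord_sext, genMap, if_neg h6, if_neg h7]

/-- The code of a vector. -/
def enc8 (c : V8) : ℕ := ∑ k, (c k).val * 2 ^ (ix k : ℕ)

theorem dec_enc : ∀ c : V8, dec (enc8 c) = c := by decide +kernel

/-- One step of a derivation: apply a generator. -/
def step (a : ℕ) (j : Fin 8) : ℕ :=
  enc8 fun k => ((kk (genMap j (lift8 (dec a))) (ix k) : ℤ) : ZMod 2)

/-- Run a derivation of orbit points. -/
def grow : List ℕ → List (ℕ × Fin 8) → List ℕ
  | L, [] => L
  | L, (a, j) :: r => if L.contains a then grow (step a j :: L) r else []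

theorem grow_orbit : ∀ (r : List (ℕ × Fin 8)) (L : List ℕ),
    (∀ a ∈ L, dec a ∈ MulAction.orbit C0 c0) → ∀ a ∈ grow L r, dec a ∈ MulAction.orbit C0 c0
  | [], L, hL, a, ha => hL a ha
  | (b, j) :: r, L, hL, a, ha => by
    simp only [grow] at ha
    split_ifs at ha with hb
    · refine grow_orbit r _ (fun e he => ?_) a ha
      rcases List.mem_cons.1 he with rfl | he
      · obtain ⟨g, hg⟩ := exists_gen j
        rw [step, dec_enc, ← act_coords hg]
        obtain ⟨x, hx⟩ := hL b (by simpa using hb)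
        exact ⟨g * x, by rw [← hx]; exact mul_smul g x c0⟩
      · exact hL e he
    · simp at ha

/-- A derivation of all singular points. -/
def steps : List (ℕ × Fin 8) :=
  [(56, 7), (75, 2), (75, 3), (75, 4), (75, 5), (237, 0), (237, 3), (237, 4), (237, 5), (237, 7),
   (185, 0), (185, 4), (185, 5), (185, 7), (55, 0), (55, 5), (55, 7), (16, 0), (16, 7), (250, 0),
   (250, 1), (250, 7), (8, 0), (8, 1), (134, 0), (134, 1), (161, 0), (161, 1), (22, 3), (22, 4),
   (22, 5), (22, 6), (174, 0), (174, 1), (174, 7), (210, 0), (210, 1), (245, 0), (245, 1), (66, 4),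
   (66, 5), (66, 6), (32, 0), (32, 1), (32, 7), (123, 0), (123, 1), (204, 5), (204, 6), (7, 0),
   (7, 1), (7, 7), (235, 6), (4, 6), (4, 7), (96, 6), (96, 7), (1, 2), (1, 6), (225, 6),
   (133, 6), (111, 6), (11, 6), (72, 6), (44, 6), (243, 0), (243, 1), (243, 6), (125, 0), (125, 1),
   (125, 6), (90, 0), (90, 1), (90, 6), (74, 0), (74, 1), (74, 7), (80, 6), (80, 7), (52, 6),
   (52, 7), (85, 6), (59, 6), (95, 6), (28, 6), (120, 6), (41, 0), (41, 1), (41, 6), (14, 0),
   (14, 1), (14, 6), (30, 0), (30, 1), (30, 7), (222, 6), (222, 7), (186, 6), (186, 7), (219, 6),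
   (146, 6), (246, 6), (128, 0), (128, 1), (128, 6), (144, 0), (144, 1), (144, 7), (249, 6), (249, 7),
   (157, 6), (157, 7), (252, 6), (183, 0), (183, 1), (183, 7), (60, 0), (176, 6), (176, 7), (217, 1),
   (87, 1), (112, 1), (180, 2), (208, 2), (194, 2), (104, 0), (3, 1), (36, 1), (230, 0), (170, 1),
   (193, 0), (236, 0), (236, 1), (195, 6)]

theorem steps_cover : ∀ c : V8, c ≠ 0 → qf c = 0 → enc8 c ∈ grow [56] steps := by decide +kernel

theorem c0_good : dec 56 ≠ 0 ∧ qf (dec 56) = 0 := by decide +kernel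

theorem act_zero (g : C0) : act g 0 = 0 := by
  have h := act_add g 0 0
  rw [add_zero] at h
  exact left_eq_add.1 h

theorem orbit_eq : MulAction.orbit C0 c0 = {c : V8 | c ≠ 0 ∧ qf c = 0} := by
  ext c
  constructor
  · rintro ⟨g, rfl⟩
    refine ⟨fun h => c0_good.1 ?_, ?_⟩
    · rw [← c0_eq, ← one_smul C0 c0, ← inv_mul_cancel g, mul_smul,
        show g • c0 = 0 from h, smul_eq_act, act_zero]
    · show qf (act g c0) = 0
      rw [qf_act, c0_eq]
      exact c0_good.2
  · rintro ⟨h1, h2⟩
    rw [← dec_enc c]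
    refine grow_orbit steps [56] (fun a ha => ?_) _ (steps_cover c h1 h2)
    rw [List.mem_singleton] at ha
    subst ha
    rw [← c0_eq]
    exact MulAction.mem_orbit_self _

theorem count_singular :
    (Finset.univ.filter fun c : V8 => c ≠ 0 ∧ qf c = 0).card = 135 := by decide +kernel

theorem card_orbit : (MulAction.orbit C0 c0).ncard = 135 := by
  rw [orbit_eq, ← count_singular, ← Set.ncard_coe_finset]
  congr 1
  ext c
  simp

theorem stab_of_comm {σ : Equiv.Perm GolayPt} {hσ : σ ∈ M24} {s : Finset GolayPt}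
    {hs : IsCode s} (h : monomial σ hσ s hs * t0 = t0 * monomial σ hσ s hs) :
    σ • oct = oct := by
  refine Finset.eq_of_subset_of_card_le (fun q hq => ?_) (Finset.card_smul_finset σ oct).ge
  obtain ⟨p, hp, rfl⟩ := Finset.mem_smul_finset.1 hq
  have h1 := onOct_act (mk0 _ h) (onOct_eightE hp)
  by_contra hn
  have h2 := h1 (σ p) hn
  change vec (monomial σ hσ s hs • eightE p) (σ p) = 0 at h2
  rw [vec_monomial, Equiv.symm_apply_apply, eightE_apply, if_pos rfl] at h2
  split_ifs at h2 <;> omega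

theorem mem_stab_iff (g : C0) :
    g ∈ MulAction.stabilizer C0 c0 ↔ Axis (g : Co0) := by
  rw [MulAction.mem_stabilizer_iff, smul_eq_act, c0, act_phi g (onOct_eightE (pts_mem 0))]
  constructor
  · intro h
    obtain ⟨z, -, e⟩ := phi_eq_zero (onOct_sub (onOct_eightE (pts_mem 0))
        (onOct_act g (onOct_eightE (pts_mem 0))))
      (by rw [phi_sub (onOct_eightE (pts_mem 0)) (onOct_act g (onOct_eightE (pts_mem 0))), h,
        two_vanish])
    obtain ⟨j, hj⟩ := eight_congr (i := pts 0) (w := (g : Co0) • eightE (pts 0)) (z := z)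
      (by rw [norm_smul', sqNorm_eightE]) (by rw [e, two_zsmul])
    exact axis_of_one hj
  · intro hax
    obtain ⟨j, hj⟩ := hax (pts 0)
    have hon := onOct_act g (onOct_eightE (pts_mem 0))
    have hjo : j ∈ oct := by
      by_contra hn
      have h2 := hon j hn
      rcases hj with hj | hj <;> rw [hj] at h2 <;>
        simp [vec, eightE] at h2
    obtain ⟨i, rfl⟩ := (mem_oct_iff j).1 hjo
    rcases hj with hj | hj
    · rw [hj, phi_eightE, phi_eightE]
    · rw [hj, phi_neg (onOct_eightE hjo), phi_eightE, phi_eightE]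

/-- The monomial elements of the centraliser. -/
noncomputable def stabMap (p : OctadStab.octadStab oct × {c : Finset GolayPt // IsCode c}) :
    MulAction.stabilizer C0 c0 :=
  ⟨mk0 (monomial (p.1 : Equiv.Perm GolayPt) p.1.2.1 p.2.1 p.2.2)
      (monomial_comm_t0 p.1.2.1 (OctadStab.smul_eq_iff.1 (MulAction.mem_stabilizer_iff.1 p.1.2.2))
        p.2.2),
    (mem_stab_iff _).2 (axis_monomial p.1.2.1 p.2.2)⟩

theorem stabMap_bijective : Function.Bijective stabMap := by
  refine ⟨?_, ?_⟩
  · rintro ⟨⟨σ, hσ⟩, c⟩ ⟨⟨σ', hσ'⟩, c'⟩ h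
    have h' := congrArg (fun x : MulAction.stabilizer C0 c0 => ((x : C0) : Co0)) h
    have e := monomialMap_bijective.1 (a₁ := (⟨σ, hσ.1⟩, c)) (a₂ := (⟨σ', hσ'.1⟩, c'))
      (Subtype.ext h')
    obtain ⟨e1, e2⟩ := Prod.ext_iff.1 e
    exact Prod.ext (Subtype.ext (show σ = σ' from congrArg Subtype.val e1)) e2
  · rintro ⟨g, hg⟩
    obtain ⟨σ, hσ, c, hc, e⟩ := exists_monomial ((mem_stab_iff g).1 hg)
    have hst : σ • oct = oct := stab_of_comm (hσ := hσ) (hs := hc) (e ▸ comm g)
    exact ⟨(⟨σ, hσ, MulAction.mem_stabilizer_iff.2 hst⟩, ⟨c, hc⟩),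
      Subtype.ext (Subtype.ext e.symm)⟩

theorem card_stab : Nat.card (MulAction.stabilizer C0 c0) = 322560 * 4096 := by
  rw [← Nat.card_eq_of_bijective _ stabMap_bijective, Nat.card_prod,
    OctadStab.card_octadStab baseOctad_mem,
    Nat.card_congr (Equiv.subtypeEquivRight fun c => (GolayUnique.mem_golaySets (s := c)).symm),
    Nat.card_eq_finsetCard, GolayUnique.card_golaySets]

theorem card_C0 : Nat.card C0 = 178362777600 := by
  have h := Subgroup.card_mul_index (MulAction.stabilizer C0 c0)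
  rw [MulAction.index_stabilizer, card_orbit, card_stab] at h
  omega

end Cfsg.Agent.Lib.Co1Cent
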