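import Cfsg.Agent.Lib.Co1Cent.Orbit
import Cfsg.Agent.Lib.LeechMod2.Frame
import Cfsg.Agent.Lib.OrthOmega.Simple
import Cfsg.Agent.Lib.LowIso.Small
import Cfsg.Agent.Lib.FusionP3.GenExtra.Iso

/-!
The centraliser in the quotient by the centre, its normal subgroup of order 512, and the quotient.
-/

set_option autoImplicit false

namespace Cfsg.Agent.Lib.Co1Cent

open Cfsg Cfsg.Agent.Lib.Leech Cfsg.Agent.Lib.Co2Cent Cfsg.Agent.Lib.Golay
open Cfsg.Agent.Lib.SporStruct Cfsg.Agent.Lib.LeechMod2
open scoped Pointwise symmDiff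

/-- The involution. -/
noncomputable def z1 : Spor.Co1 := Frame.bar t0

/-- Its centraliser. -/
noncomputable abbrev C1 : Subgroup Spor.Co1 := Subgroup.centralizer ({z1} : Set Spor.Co1)

/-- Reduction modulo the centre. -/
noncomputable def pi : C0 →* C1 :=
  (Frame.bar.comp C0.subtype).codRestrict _ fun g => Subgroup.mem_centralizer_singleton_iff.2 (by
    show Frame.bar (g : Co0) * Frame.bar t0 = Frame.bar t0 * Frame.bar (g : Co0)
    rw [← map_mul, comm, map_mul])

theorem coe_pi (g : C0) : ((pi g : C1) : Spor.Co1) = Frame.bar (g : Co0) := rfl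

theorem dot_eightE (w : leechLattice) (q : GolayPt) :
    dotInt (vec w) (vec (eightE q)) = 8 * vec w q := by
  rw [dotInt, Finset.sum_eq_single q (fun b _ hb => by rw [eightE_apply, if_neg hb, mul_zero])
    (fun h => absurd (Finset.mem_univ q) h), eightE_apply, if_pos rfl]
  ring

theorem entry_symm (g : Co0) (p q : GolayPt) :
    vec (g • eightE p) q = vec (g⁻¹ • eightE q) p := by
  have h := dot_smul g⁻¹ (g • eightE p) (eightE q)
  rw [inv_smul_smul, dot_eightE] at h
  have h2 : dotInt (vec (eightE p)) (vec (g⁻¹ • eightE q)) =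
      dotInt (vec (g⁻¹ • eightE q)) (vec (eightE p)) := by
    simp only [dotInt, mul_comm]
  rw [h2, dot_eightE] at h
  omega

theorem comm_of_bar {g : Co0} (h : Frame.bar (g * t0) = Frame.bar (t0 * g)) :
    g * t0 = t0 * g := by
  have hc : (t0 * g)⁻¹ * (g * t0) ∈ Subgroup.center Co0 := by
    rw [← Frame.bar_eq_one, map_mul, map_inv, h, inv_mul_cancel]
  rcases center_co0_eq hc with e | e
  · exact (inv_mul_eq_one.1 e).symm
  exfalso
  have e' : g * t0 = t0 * g * negOne := inv_mul_eq_iff_eq_mul.1 e
  have hon : ∀ p, p ∉ oct → OnOct (g • eightE p) := by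
    intro p hp
    refine onOct_of_fix ?_
    have h1 : t0 • eightE p = -eightE p := by
      apply Subtype.ext
      funext q
      show vec (t0 • eightE p) q = -vec (eightE p) q
      rw [vec_t0]
      split_ifs with hq
      · rw [eightE_apply, if_neg (fun h' : q = p => hp (h' ▸ hq))]; rfl
      · rfl
    have h2 := congrArg (fun x : Co0 => x • eightE p) e'
    simp only [mul_smul, h1, smul_neg', negOne_smul] at h2
    exact (neg_injective h2).symm
  have key : ∀ q, ∑ p, vec (g • eightE p) q ^ 2 = 64 := fun q => by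
    simp only [entry_symm g _ q]
    exact (norm_smul' g⁻¹ (eightE q)).trans (sqNorm_eightE q)
  have hsum : ∑ p ∈ octᶜ, ∑ i, vec (g • eightE p) (pts i) ^ 2 = 16 * 64 := by
    rw [Finset.sum_congr rfl fun p hp => show ∑ i, vec (g • eightE p) (pts i) ^ 2 = 64 from ?_]
    · rw [Finset.sum_const, show octᶜ.card = 16 from by decide +kernel]
      norm_num
    · rw [← sum_oct (fun q => vec (g • eightE p) q ^ 2) fun q hq => by
        rw [hon p (Finset.mem_compl.1 hp) q hq]; rfl]
      exact (norm_smul' g (eightE p)).trans (sqNorm_eightE p)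
  have hle : ∑ p ∈ octᶜ, ∑ i, vec (g • eightE p) (pts i) ^ 2 ≤
      ∑ p, ∑ i, vec (g • eightE p) (pts i) ^ 2 :=
    Finset.sum_le_sum_of_subset_of_nonneg (Finset.subset_univ _)
      fun p _ _ => Finset.sum_nonneg fun i _ => sq_nonneg _
  rw [hsum, Finset.sum_comm] at hle
  simp only [key, Finset.sum_const, Finset.card_univ, Fintype.card_fin] at hle
  norm_num at hle

theorem pi_surjective : Function.Surjective pi := by
  rintro ⟨x, hx⟩
  obtain ⟨g, rfl⟩ := Frame.bar_surjective x
  have h := Subgroup.mem_centralizer_singleton_iff.1 hx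
  rw [z1, ← map_mul, ← map_mul] at h
  exact ⟨mk0 g (comm_of_bar h), rfl⟩

theorem pi_eq_one {g : C0} : pi g = 1 ↔ g = 1 ∨ g = neg0 := by
  rw [Subtype.ext_iff, coe_pi, OneMemClass.coe_one, Frame.bar_eq_one]
  constructor
  · intro h
    rcases center_co0_eq h with e | e
    · exact Or.inl (Subtype.ext e)
    · exact Or.inr (Subtype.ext e)
  · rintro (rfl | rfl)
    · exact one_mem _
    · exact negOne_mem_center

theorem card_C1 : Nat.card C1 = 89181388800 := by
  have hk : Nat.card pi.ker = 2 := by
    have h : (pi.ker : Set C0) = {1, neg0} := by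
      ext g
      simpa using pi_eq_one
    rw [← SetLike.coe_sort_coe, h, Nat.card_coe_set_eq, Set.ncard_pair]
    exact fun e => negOne_ne_one (congrArg Subtype.val e).symm
  have h := Subgroup.card_mul_index pi.ker
  rw [Subgroup.index_ker, hk, MonoidHom.range_eq_top.2 pi_surjective, Subgroup.card_top,
    card_C0] at h
  omega

theorem pi_le_rho : pi.ker ≤ rho.ker := fun g hg => by
  rcases pi_eq_one.1 hg with rfl | rfl
  · exact one_mem _
  · exact rho_neg0

/-- The action of the centraliser. -/
noncomputable def rho1 : C1 →* Cfsg.isometryGroup (ZMod 2) qf :=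
  pi.liftOfSurjective pi_surjective ⟨rho, pi_le_rho⟩

theorem rho1_pi (g : C0) : rho1 (pi g) = rho g :=
  pi.liftOfRightInverse_comp_apply _ _ ⟨rho, pi_le_rho⟩ g

/-- The extraspecial subgroup, from the centraliser in the smaller group. -/
noncomputable def psi : Co2Cent.rho.ker →* C1 where
  toFun k := pi (mk0 (toCo0 k.1) (Co2Cent.comm_t0 k.1))
  map_one' := by
    rw [← map_one pi]
    exact congrArg pi (Subtype.ext (map_one toCo0))
  map_mul' a b := by
    rw [← map_mul pi]
    exact congrArg pi (Subtype.ext (map_mul toCo0 a.1 b.1))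

theorem psi_kerMap (p : octadFix oct × {s : Finset GolayPt // Off s}) :
    psi (kerMap p) = pi (ker0 (kerData_mk p.1.2 p.2.2)) := rfl

theorem psi_injective : Function.Injective psi := by
  rw [injective_iff_map_eq_one]
  intro k hk
  obtain ⟨⟨σ, s⟩, rfl⟩ := kerMap_bijective.2 k
  rcases pi_eq_one.1 (psi_kerMap _ ▸ hk) with h | h
  · exact Subtype.ext (toCo0_injective ((congrArg Subtype.val h).trans (map_one toCo0).symm))
  · exfalso
    have h' := congrArg (fun x : C0 => (x : Co0) • eightE (pts 0)) h
    change kerElt0 (kerData_mk σ.2 s.2) • eightE (pts 0) = negOne • eightE (pts 0) at h'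
    rw [negOne_smul, kerElt0_fix (kerData_mk σ.2 s.2) (onOct_eightE (pts_mem 0))] at h'
    exact eightE_ne_neg _ _ h'

theorem ker_rho1 : rho1.ker = psi.range := by
  ext x
  obtain ⟨g, rfl⟩ := pi_surjective x
  rw [MonoidHom.mem_ker, rho1_pi]
  constructor
  · intro hg
    obtain ⟨σ, s, h, e⟩ := ker_data0 g hg
    refine ⟨kerMap (⟨σ, h.1⟩, ⟨s, h.2⟩), ?_⟩
    rw [psi_kerMap]
    rcases e with e | e
    · exact congrArg pi (Subtype.ext e.symm)
    · have eg : g = neg0 * ker0 h := Subtype.ext e
      rw [eg, map_mul, pi_eq_one.2 (Or.inr rfl), one_mul]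
  · rintro ⟨k, hk⟩
    obtain ⟨⟨σ, s⟩, rfl⟩ := kerMap_bijective.2 k
    rw [← rho1_pi, ← hk, psi_kerMap, rho1_pi, rho_ker0]

/-- The extraspecial group. -/
noncomputable abbrev Q1 : Subgroup C1 := rho1.ker

theorem card_Q1 : Nat.card Q1 = 2 ^ 9 := by
  rw [Q1, ker_rho1, ← Nat.card_congr (MonoidHom.ofInjective psi_injective).toEquiv,
    Co2Cent.card_ker]

theorem finite_C1 : Finite C1 := Nat.finite_of_card_ne_zero (by rw [card_C1]; norm_num)

theorem extraspecial_Q1 : IsExtraspecial 2 Q1 := by
  have : Fact (Nat.Prime 2) := ⟨Nat.prime_two⟩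
  have := finite_C1
  rw [Q1, ker_rho1]
  exact FusionP3.GenExtra.isExtraspecial_congr (MonoidHom.ofInjective psi_injective)
    ker_extraspecial

theorem card_isometry : Nat.card (Cfsg.isometryGroup (ZMod 2) qf) = 348364800 := by
  rw [OrthStd.card_orth_plus (q := 2) (ZMod.card 2) 4 (by norm_num)]
  decide +kernel

theorem card_range : Nat.card rho1.range = 174182400 := by
  have h := Subgroup.card_mul_index rho1.ker
  rw [Subgroup.index_ker, card_C1] at h
  have hq : Nat.card rho1.ker = 512 := card_Q1
  rw [hq] at h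
  omega

theorem card_omega : Nat.card (Cfsg.Omega (ZMod 2) qf) = 174182400 := by
  have h := LowIso.Small.index_mul_card_omega (Forms.qPlus (F := ZMod 2) 4)
    (OrthStd.quadFormPlus_eq 4)
  rw [Forms.index_commutator_two (Forms.qPlus_nondeg 4) (by decide)
    (by rw [OrthOmega.finrank_fun]; simp)
    (Or.inr (by rw [OrthOmega.finrank_fun]; simp)), card_isometry] at h
  have h' : 2 * Nat.card (Cfsg.Omega (ZMod 2) qf) = 348364800 := h
  omega

theorem range_rho1 : rho1.range = Cfsg.Omega (ZMod 2) qf := by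
  have : Finite (Cfsg.isometryGroup (ZMod 2) qf) :=
    Nat.finite_of_card_ne_zero (by rw [card_isometry]; norm_num)
  have hidx : rho1.range.index = 2 := by
    have h := Subgroup.card_mul_index rho1.range
    rw [card_range, card_isometry] at h
    omega
  have := Subgroup.normal_of_index_eq_two hidx
  have hle : commutator (Cfsg.isometryGroup (ZMod 2) qf) ≤ rho1.range := by
    have : Fact (Nat.Prime 2) := ⟨Nat.prime_two⟩
    have := isCyclic_of_prime_card (α := Cfsg.isometryGroup (ZMod 2) qf ⧸ rho1.range) (p := 2) hidx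
    rw [← QuotientGroup.ker_mk' rho1.range, commutator_def, Subgroup.commutator_le]
    intro a _ b _
    rw [MonoidHom.mem_ker, map_commutatorElement, commutatorElement_eq_one_iff_mul_comm]
    exact IsMulCommutative.is_comm.comm _ _
  exact (Subgroup.eq_of_le_of_card_ge hle (by rw [card_range, ← card_omega])).symm

/-- The quotient is the orthogonal group. -/
noncomputable def quotEquiv : C1 ⧸ Q1 ≃* Cfsg.Omega (ZMod 2) qf :=
  (QuotientGroup.quotientKerEquivRange rho1).trans (MulEquiv.subgroupCongr range_rho1)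

theorem isSimple_omega : IsSimpleGroup (Cfsg.Omega (ZMod 2) qf) := by
  have : Finite (Cfsg.Omega (ZMod 2) qf) :=
    Nat.finite_of_card_ne_zero (by rw [card_omega]; norm_num)
  have h := OrthOmega.card_pOmega_plus (F := ZMod 2) (q := 2) (ZMod.card 2) 4 (by norm_num)
  have hp : Nat.card (Cfsg.POmega (ZMod 2) qf) = 174182400 := by
    norm_num [Finset.prod_range_succ] at h
    exact h
  have hb : Function.Bijective (QuotientGroup.mk' (Subgroup.center (Cfsg.Omega (ZMod 2) qf))) :=
    (Nat.bijective_iff_surjective_and_card _).2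
      ⟨QuotientGroup.mk'_surjective _, by rw [card_omega]; exact hp.symm⟩
  have := OrthOmega.isSimpleGroup_pOmega_plus (F := ZMod 2) 4 (by norm_num)
  exact (MulEquiv.ofBijective _ hb).isSimpleGroup

end Cfsg.Agent.Lib.Co1Cent
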