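import Cfsg.Agent.Lib.Co2Cent.Main
import Cfsg.Prelude.Def_Classical

/-!
The lattice vectors supported on the octad modulo two: a quadratic space of plus type in
dimension eight.
-/

set_option autoImplicit false

namespace Cfsg.Agent.Lib.Co1Cent

open Cfsg Cfsg.Agent.Lib.Leech Cfsg.Agent.Lib.Co2Cent

/-- The eight-dimensional space. -/
abbrev V8 : Type := Fin 4 ⊕ Fin 4 → ZMod 2

/-- The form. -/
abbrev qf : V8 → ZMod 2 := Cfsg.quadFormPlus 4 (ZMod 2)

/-- The index of a coordinate. -/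
abbrev ix : Fin 4 ⊕ Fin 4 → Fin 8 := finSumFinEquiv

/-- A basis of the octad lattice, hyperbolic modulo two. -/
def BB : Fin 8 → Fin 8 → ℤ :=
  ![![2, -2, 2, 2, 2, 6, -2, -2],
    ![2, 2, -2, 2, 6, -2, -2, 2],
    ![4, 4, 0, -4, 4, 0, 0, 0],
    ![4, -4, 0, 0, 0, 0, 4, 4],
    ![0, -4, 4, 4, 0, 0, 0, 4],
    ![-4, 0, -4, -4, 0, 0, 4, 0],
    ![0, -4, 0, 4, -4, 0, 4, 0],
    ![6, -2, 2, 2, -2, -2, 2, 2]]

/-- The dual basis. -/
def DD : Fin 8 → Fin 8 → ℤ :=
  ![![0, -12, 4, -4, 8, -8, 0, -12],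
    ![0, -4, 0, 0, 4, -4, 0, -4],
    ![0, 12, 0, 4, -4, 8, 4, 8],
    ![2, 18, -10, 6, -14, 18, -2, 22],
    ![-2, -6, 6, -2, 6, -6, 2, -6],
    ![-2, -26, 10, -10, 18, -22, 2, -26],
    ![0, 16, -4, 8, -8, 12, 4, 12],
    ![0, -32, 12, -12, 20, -28, 0, -32]]

theorem basis_test : ∀ i : Fin 8, ((∀ l, BB i l % 2 = 0) ∧ (∀ l, BB i l % 4 = BB i 0 % 4) ∧
    (∑ l, BB i l) % 8 = 0) ∧ ((∀ l, DD i l % 2 = 0) ∧ (∀ l, DD i l % 4 = DD i 0 % 4) ∧
    (∑ l, DD i l) % 8 = 0) := by decide +kernel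

theorem cong_BB (i : Fin 8) : Cong (BB i) :=
  ⟨(basis_test i).1.1, (basis_test i).1.2.1, (basis_test i).1.2.2⟩

theorem cong_DD (i : Fin 8) : Cong (DD i) :=
  ⟨(basis_test i).2.1, (basis_test i).2.2.1, (basis_test i).2.2.2⟩

theorem recon : ∀ j l : Fin 8, ∑ i, DD i j * BB i l = if j = l then 16 else 0 := by decide +kernel

/-- The integral coordinates. -/
def kk (x : Fin 8 → ℤ) (i : Fin 8) : ℤ := (∑ j, x j * DD i j) / 16

theorem sixteen_dvd {x : Fin 8 → ℤ} (hx : Cong x) (i : Fin 8) : (16 : ℤ) ∣ ∑ j, x j * DD i j := by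
  have h := dot_dvd (onOct_ofCoord x hx) (onOct_ofCoord _ (cong_DD i))
  rwa [dot_coord (onOct_ofCoord x hx), coord_ofCoord, coord_ofCoord] at h

theorem kk_mul {x : Fin 8 → ℤ} (hx : Cong x) (i : Fin 8) :
    16 * kk x i = ∑ j, x j * DD i j :=
  Int.mul_ediv_cancel' (sixteen_dvd hx i)

theorem kk_add {x y : Fin 8 → ℤ} (hx : Cong x) (i : Fin 8) :
    kk (x + y) i = kk x i + kk y i := by
  simp only [kk, Pi.add_apply, add_mul, Finset.sum_add_distrib]
  exact Int.add_ediv_of_dvd_left (sixteen_dvd hx i)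

theorem expand {x : Fin 8 → ℤ} (hx : Cong x) (l : Fin 8) : x l = ∑ i, kk x i * BB i l := by
  have h : 16 * ∑ i, kk x i * BB i l = 16 * x l := by
    rw [Finset.mul_sum]
    calc ∑ i, 16 * (kk x i * BB i l) = ∑ i, ∑ j, x j * (DD i j * BB i l) :=
          Finset.sum_congr rfl fun i _ => by
            rw [← mul_assoc, kk_mul hx, Finset.sum_mul]
            exact Finset.sum_congr rfl fun j _ => mul_assoc _ _ _
      _ = ∑ j, x j * ∑ i, DD i j * BB i l := by
            rw [Finset.sum_comm]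
            exact Finset.sum_congr rfl fun j _ => (Finset.mul_sum _ _ _).symm
      _ = 16 * x l := by
            simp only [recon, mul_ite, mul_zero, Finset.sum_ite_eq', Finset.mem_univ, if_true]
            ring
  omega

theorem cong_comb (m : Fin 8 → ℤ) : Cong (fun l => ∑ i, m i * BB i l) := by
  refine ⟨fun l => ?_, fun l => ?_, ?_⟩
  · exact Int.emod_eq_zero_of_dvd (Finset.dvd_sum fun i _ =>
      dvd_mul_of_dvd_right (Int.dvd_of_emod_eq_zero ((cong_BB i).even l)) _)
  · refine Int.emod_eq_emod_iff_emod_sub_eq_zero.2 (Int.emod_eq_zero_of_dvd ?_)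
    rw [← Finset.sum_sub_distrib]
    refine Finset.dvd_sum fun i _ => ?_
    rw [← mul_sub]
    exact dvd_mul_of_dvd_right
      (Int.dvd_of_emod_eq_zero (Int.emod_eq_emod_iff_emod_sub_eq_zero.1 ((cong_BB i).four l))) _
  · refine Int.emod_eq_zero_of_dvd ?_
    show (8 : ℤ) ∣ ∑ l, ∑ i, m i * BB i l
    rw [Finset.sum_comm]
    refine Finset.dvd_sum fun i _ => ?_
    rw [← Finset.mul_sum]
    exact dvd_mul_of_dvd_right (Int.dvd_of_emod_eq_zero (cong_BB i).eight) _

/-- Reduction modulo two. -/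
def phi (v : leechLattice) : V8 := fun k => ((kk (coord v) (ix k) : ℤ) : ZMod 2)

theorem onOct_add {v w : leechLattice} (hv : OnOct v) (hw : OnOct w) : OnOct (v + w) := fun p hp => by
  show vec v p + vec w p = 0
  rw [hv p hp, hw p hp]; rfl

theorem onOct_neg {v : leechLattice} (hv : OnOct v) : OnOct (-v) := fun p hp => by
  show -vec v p = 0
  rw [hv p hp]; rfl

theorem onOct_sub {v w : leechLattice} (hv : OnOct v) (hw : OnOct w) : OnOct (v - w) := by
  rw [sub_eq_add_neg]; exact onOct_add hv (onOct_neg hw)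

theorem phi_add {v w : leechLattice} (hv : OnOct v) : phi (v + w) = phi v + phi w := by
  funext k
  simp only [phi, Pi.add_apply, coord_add, kk_add (cong_of_onOct hv), Int.cast_add]

theorem two_vanish (c : V8) : c + c = 0 := funext fun k => CharTwo.add_self_eq_zero (c k)

theorem phi_double {z : leechLattice} (hz : OnOct z) : phi (z + z) = 0 := by
  rw [phi_add hz, two_vanish]

theorem phi_zero : phi 0 = 0 := by
  have h := phi_add (v := 0) (w := 0) (fun _ _ => rfl)
  rw [add_zero] at h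
  exact left_eq_add.1 h

theorem phi_neg {v : leechLattice} (hv : OnOct v) : phi (-v) = phi v := by
  have h := phi_add (w := -v) hv
  rw [add_neg_cancel, phi_zero] at h
  exact add_left_cancel (h.symm.trans (two_vanish (phi v)).symm)

theorem phi_sub {v w : leechLattice} (hv : OnOct v) (hw : OnOct w) :
    phi (v - w) = phi v + phi w := by
  rw [sub_eq_add_neg, phi_add hv, phi_neg hw]

/-- The kernel of reduction is twice the lattice. -/
theorem phi_eq_zero {v : leechLattice} (hv : OnOct v) (h : phi v = 0) :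
    ∃ z : leechLattice, OnOct z ∧ v = z + z := by
  have hev : ∀ i, ∃ m, kk (coord v) i = m + m := fun i => by
    have h' := congrFun h (finSumFinEquiv.symm i)
    simp only [phi, ix, Equiv.apply_symm_apply, Pi.zero_apply,
      ZMod.intCast_zmod_eq_zero_iff_dvd] at h'
    exact ⟨kk (coord v) i / 2, by omega⟩
  choose m hm using hev
  refine ⟨ofCoord _ (cong_comb m), onOct_ofCoord _ _,
    ext_of_coord hv (onOct_add (onOct_ofCoord _ _) (onOct_ofCoord _ _)) ?_⟩
  funext l
  rw [coord_add, Pi.add_apply, coord_ofCoord, expand (cong_of_onOct hv) l,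
    ← Finset.sum_add_distrib]
  exact Finset.sum_congr rfl fun i _ => by rw [hm i, add_mul]

/-- Coordinates of the lift. -/
def lift8 (c : V8) (l : Fin 8) : ℤ := ∑ i, ((c (finSumFinEquiv.symm i)).val : ℤ) * BB i l

theorem cong_lift8 (c : V8) : Cong (lift8 c) :=
  cong_comb fun i => ((c (finSumFinEquiv.symm i)).val : ℤ)

/-- The lift. -/
def lift (c : V8) : leechLattice := ofCoord (lift8 c) (cong_lift8 c)

theorem onOct_lift (c : V8) : OnOct (lift c) := onOct_ofCoord _ _

theorem lift8_test : ∀ c : V8, (∀ k, ((kk (lift8 c) (ix k) : ℤ) : ZMod 2) = c k) ∧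
    (∑ l, lift8 c l ^ 2) % 32 = 0 ∧ ((((∑ l, lift8 c l ^ 2) / 32 : ℤ)) : ZMod 2) = qf c := by
  decide +kernel

theorem phi_lift (c : V8) : phi (lift c) = c := by
  funext k
  show ((kk (coord (ofCoord (lift8 c) (cong_lift8 c))) (ix k) : ℤ) : ZMod 2) = c k
  rw [coord_ofCoord]
  exact (lift8_test c).1 k

theorem exists_lift {v : leechLattice} (hv : OnOct v) :
    ∃ z : leechLattice, OnOct z ∧ v = lift (phi v) + (z + z) := by
  obtain ⟨z, hz, e⟩ := phi_eq_zero (onOct_sub hv (onOct_lift (phi v)))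
    (by rw [phi_sub hv (onOct_lift _), phi_lift, two_vanish])
  exact ⟨z, hz, by rw [← e]; abel⟩

theorem qf_phi {v : leechLattice} (hv : OnOct v) :
    qf (phi v) = ((sqNorm (vec v) / 32 : ℤ) : ZMod 2) := by
  obtain ⟨z, hz, e⟩ := exists_lift hv
  obtain ⟨-, h32, hq⟩ := lift8_test (phi v)
  have hL : sqNorm (vec (lift (phi v))) = ∑ l, lift8 (phi v) l ^ 2 := sqNorm_ofCoord _ _
  obtain ⟨a, ha⟩ := dot_dvd (onOct_lift (phi v)) hz
  obtain ⟨b, hb⟩ := dot_dvd hz hz
  have hzz : sqNorm (vec z) = 16 * b := by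
    rw [← hb]; simp only [sqNorm, dotInt, sq]
  have hz2 : sqNorm (vec (z + z)) = 4 * sqNorm (vec z) := by
    simp only [sqNorm, vec, AddSubgroup.coe_add, Pi.add_apply, Finset.mul_sum]
    exact Finset.sum_congr rfl fun p _ => by ring
  have hd2 : dotInt (vec (lift (phi v))) (vec (z + z)) =
      2 * dotInt (vec (lift (phi v))) (vec z) := by
    simp only [dotInt, vec, AddSubgroup.coe_add, Pi.add_apply, Finset.mul_sum]
    exact Finset.sum_congr rfl fun p _ => by ring
  have hn : sqNorm (vec v) = (∑ l, lift8 (phi v) l ^ 2) + 64 * (a + b) := by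
    conv_lhs => rw [e]
    have := sqNorm_add (vec (lift (phi v))) (vec (z + z))
    simp only [vec, AddSubgroup.coe_add] at this hL hd2 hz2 ha hzz ⊢
    rw [this, hL, hd2, hz2, ha, hzz]
    ring
  rw [hn, ← hq, show (∑ l, lift8 (phi v) l ^ 2) + 64 * (a + b) =
    (∑ l, lift8 (phi v) l ^ 2) + (2 * (a + b)) * 32 by ring,
    Int.add_mul_ediv_right _ _ (by norm_num), Int.cast_add, Int.cast_mul,
    show ((2 : ℤ) : ZMod 2) = 0 from rfl, zero_mul, add_zero]

end Cfsg.Agent.Lib.Co1Cent
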